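import Groth.Agent.PSLib.Basic
import Groth.Agent.PSLib.Regular
import Mathlib.RingTheory.LocalRing.Length

/-!
`k[[x,y,t]]/(x^2 - y^n)` as a free `k[[y,t]]`-module with basis `1, x`: coefficient functionals and
length bounds for quotients by ideals.
-/

namespace Groth.Agent.GrLib8.HighDP

open MvPowerSeries

universe u

variable (k : Type u) [Field k] (n : ℕ)

/-- Power series in three variables. -/
abbrev P : Type u := MvPowerSeries (Fin 3) k

/-- The relation `x^2 - y^n`. -/
noncomputable def relIdeal : Ideal (P k) :=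
  Ideal.span {(X 0 ^ 2 - X 1 ^ n : P k)}

/-- The ring `k[[x,y,t]]/(x^2 - y^n)`. -/
abbrev A : Type u := P k ⧸ relIdeal k n

/-- Exponent vectors. -/
noncomputable def expo (a b c : ℕ) : Fin 3 →₀ ℕ :=
  Finsupp.single 0 a + Finsupp.single 1 b + Finsupp.single 2 c

lemma expo_apply (a b c : ℕ) : expo a b c 0 = a ∧ expo a b c 1 = b ∧ expo a b c 2 = c := by
  refine ⟨?_, ?_, ?_⟩ <;> simp [expo]

lemma expo_eta (d : Fin 3 →₀ ℕ) : d = expo (d 0) (d 1) (d 2) := by
  ext i
  fin_cases i <;> simp [expo]

lemma expo_inj {a b c a' b' c' : ℕ} (h : expo a b c = expo a' b' c') :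
    a = a' ∧ b = b' ∧ c = c' := by
  refine ⟨?_, ?_, ?_⟩
  · simpa [expo] using congrArg (fun d => d 0) h
  · simpa [expo] using congrArg (fun d => d 1) h
  · simpa [expo] using congrArg (fun d => d 2) h

lemma coeff_X0_pow_mul (s a b c : ℕ) (f : P k) :
    coeff (expo a b c) (f * X 0 ^ s) = if s ≤ a then coeff (expo (a - s) b c) f else 0 := by
  classical
  rw [X_pow_eq, coeff_mul_monomial]
  by_cases h : s ≤ a
  · have h1 : Finsupp.single (0 : Fin 3) s ≤ expo a b c := by
      intro i; fin_cases i <;> simp [expo, h]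
    have h2 : expo a b c - Finsupp.single 0 s = expo (a - s) b c := by
      ext i; fin_cases i <;> simp [expo]
    rw [if_pos h1, if_pos h, mul_one, h2]
  · have h1 : ¬ Finsupp.single (0 : Fin 3) s ≤ expo a b c := fun hle => h <| by
      simpa [expo] using hle 0
    rw [if_neg h1, if_neg h]

lemma coeff_X1_pow_mul (s a b c : ℕ) (f : P k) :
    coeff (expo a b c) (f * X 1 ^ s) = if s ≤ b then coeff (expo a (b - s) c) f else 0 := by
  classical
  rw [X_pow_eq, coeff_mul_monomial]
  by_cases h : s ≤ b
  · have h1 : Finsupp.single (1 : Fin 3) s ≤ expo a b c := by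
      intro i; fin_cases i <;> simp [expo, h]
    have h2 : expo a b c - Finsupp.single 1 s = expo a (b - s) c := by
      ext i; fin_cases i <;> simp [expo]
    rw [if_pos h1, if_pos h, mul_one, h2]
  · have h1 : ¬ Finsupp.single (1 : Fin 3) s ≤ expo a b c := fun hle => h <| by
      simpa [expo] using hle 1
    rw [if_neg h1, if_neg h]

/-- The coefficient of `x^e y^i t^j` (`e < 2`) in the normal form of a power series. -/
noncomputable def phi (e i j : ℕ) : P k →ₗ[k] k :=
  ∑ l ∈ Finset.range (i + 1), if n * l ≤ i then coeff (expo (2 * l + e) (i - n * l) j) else 0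

lemma phi_apply (e i j : ℕ) (f : P k) :
    phi k n e i j f = ∑ l ∈ Finset.range (i + 1),
      if n * l ≤ i then coeff (expo (2 * l + e) (i - n * l) j) f else 0 := by
  rw [phi, LinearMap.sum_apply]
  exact Finset.sum_congr rfl fun l _ => by split_ifs <;> rfl

lemma phi_rel {e i j : ℕ} (he : e < 2) (hn : 1 ≤ n) (c : P k) :
    phi k n e i j (c * (X 0 ^ 2 - X 1 ^ n)) = 0 := by
  let g : ℕ → k := fun l =>
    if n * (l + 1) ≤ i then coeff (expo (2 * l + e) (i - n * (l + 1)) j) c else 0
  have hx : phi k n e i j (c * X 0 ^ 2) = ∑ l ∈ Finset.range i, g l := by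
    rw [phi_apply, Finset.sum_range_succ']
    rw [show (if n * 0 ≤ i then coeff (expo (2 * 0 + e) (i - n * 0) j) (c * X 0 ^ 2) else 0) = 0 by
      rw [coeff_X0_pow_mul, if_pos (by simp), if_neg (by omega)], add_zero]
    refine Finset.sum_congr rfl fun l _ => ?_
    by_cases h : n * (l + 1) ≤ i
    · rw [if_pos h, coeff_X0_pow_mul, if_pos (by omega)]
      simp only [g, if_pos h]
      rw [show 2 * (l + 1) + e - 2 = 2 * l + e by omega]
    · simp only [g, if_neg h]
  have hy : phi k n e i j (c * X 1 ^ n) = ∑ l ∈ Finset.range (i + 1), g l := by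
    rw [phi_apply]
    refine Finset.sum_congr rfl fun l _ => ?_
    have hl : n * (l + 1) = n * l + n := Nat.mul_succ _ _
    by_cases h : n * (l + 1) ≤ i
    · rw [if_pos (by omega), coeff_X1_pow_mul, if_pos (by omega)]
      simp only [g, if_pos h]
      rw [show i - n * l - n = i - n * (l + 1) by omega]
    · simp only [g, if_neg h]
      split_ifs with h1
      · rw [coeff_X1_pow_mul, if_neg (by omega)]
      · rfl
  have hgi : g i = 0 := by
    have : i + 1 ≤ n * (i + 1) := Nat.le_mul_of_pos_left _ (by omega)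
    simp only [g]
    exact if_neg (by omega)
  rw [mul_sub, map_sub, hx, hy, Finset.sum_range_succ, hgi, add_zero, sub_self]

lemma phi_mem_relIdeal {e i j : ℕ} (he : e < 2) (hn : 1 ≤ n) {f : P k}
    (hf : f ∈ relIdeal k n) : phi k n e i j f = 0 := by
  obtain ⟨c, rfl⟩ := Ideal.mem_span_singleton'.1 hf
  exact phi_rel k n he hn c

lemma phi_monomial (hn : 1 ≤ n) {e i j e' i' j' : ℕ} (he : e < 2) (he' : e' < 2) :
    phi k n e i j (monomial (expo e' i' j') 1) =
      if (e, i, j) = (e', i', j') then 1 else 0 := by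
  classical
  rw [phi_apply, Finset.sum_eq_single 0]
  · rw [if_pos (by simp), coeff_monomial]
    by_cases h : (e, i, j) = (e', i', j')
    · simp only [Prod.mk.injEq] at h
      obtain ⟨rfl, rfl, rfl⟩ := h
      simp
    · rw [if_neg h, if_neg]
      intro h'
      have := expo_inj h'
      exact h (by simp only [Prod.mk.injEq]; omega)
  · intro l _ hl
    split_ifs with h1
    · rw [coeff_monomial, if_neg]
      intro h'
      have := expo_inj h'
      omega
    · rfl
  · intro h
    simp at h

/-- The filtration by weight `i + ⌊j/2⌋` of the exponent of `y^i t^j`. -/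
noncomputable def filt (s : ℕ) : Ideal (P k) where
  carrier := {f | ∀ a b c, b + c / 2 < s → coeff (expo a b c) f = 0}
  add_mem' hf hg a b c h := by rw [map_add, hf a b c h, hg a b c h, add_zero]
  zero_mem' a b c _ := map_zero _
  smul_mem' r f hf a b c h := by
    classical
    rw [smul_eq_mul, coeff_mul]
    refine Finset.sum_eq_zero fun p hp => ?_
    rw [Finset.HasAntidiagonal.mem_antidiagonal] at hp
    have h1 : p.1 1 + p.2 1 = b := by
      simpa [expo] using congrArg (fun d => d 1) hp
    have h2 : p.1 2 + p.2 2 = c := by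
      simpa [expo] using congrArg (fun d => d 2) hp
    rw [expo_eta p.2, hf _ _ _ (by omega), mul_zero]

lemma filt_mul (s r : ℕ) : filt k s * filt k r ≤ filt k (s + r) := by
  rw [Ideal.mul_le]
  intro f hf g hg a b c h
  classical
  rw [coeff_mul]
  refine Finset.sum_eq_zero fun p hp => ?_
  rw [Finset.HasAntidiagonal.mem_antidiagonal] at hp
  have h1 : p.1 1 + p.2 1 = b := by
    simpa [expo] using congrArg (fun d => d 1) hp
  have h2 : p.1 2 + p.2 2 = c := by
    simpa [expo] using congrArg (fun d => d 2) hp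
  by_cases hl : p.1 1 + p.1 2 / 2 < s
  · rw [expo_eta p.1, hf _ _ _ hl, zero_mul]
  · rw [expo_eta p.2, hg _ _ _ (by omega), mul_zero]

lemma filt_zero : filt k 0 = ⊤ :=
  top_le_iff.1 fun f _ a b c h => absurd h (Nat.not_lt_zero _)

lemma filt_pow (s : ℕ) : filt k 1 ^ s ≤ filt k s := by
  induction s with
  | zero => rw [filt_zero]; exact le_top
  | succ s ih =>
    rw [pow_succ]
    exact le_trans (mul_le_mul' ih le_rfl) (filt_mul k s 1)

/-- `phi` vanishes on elements of weight above that of the target monomial. -/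
lemma phi_filt {e i j s : ℕ} (hij : i + j / 2 < s) {f : P k} (hf : f ∈ filt k s) :
    phi k n e i j f = 0 := by
  rw [phi_apply]
  refine Finset.sum_eq_zero fun l _ => ?_
  split_ifs with h
  · exact hf _ _ _ (by omega)
  · rfl

/-- `phi` on `x` times an element of weight above that of the target monomial. -/
lemma phi_X_mul_filt {e i j s : ℕ} (he : e < 2) (hs : i + j / 2 < s + if e = 0 then n else 0)
    {f : P k} (hf : f ∈ filt k s) :
    phi k n e i j (f * X 0) = 0 := by
  rw [phi_apply]
  refine Finset.sum_eq_zero fun l _ => ?_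
  split_ifs with h
  · have hX : (X 0 : P k) = X 0 ^ 1 := (pow_one _).symm
    rw [hX, coeff_X0_pow_mul]
    split_ifs with h1
    · refine hf _ _ _ ?_
      rcases Nat.eq_zero_or_pos l with hl | hl
      · subst hl
        have : e ≠ 0 := by omega
        rw [if_neg this] at hs
        omega
      · have : n ≤ n * l := Nat.le_mul_of_pos_right _ hl
        split_ifs at hs <;> omega
    · rfl
  · rfl

instance : IsScalarTower k (P k) (A k n) := inferInstance

/-- Lengths over `A` are dimensions over `k`. -/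
lemma length_A_eq (J : Ideal (A k n)) :
    Module.length (A k n) (A k n ⧸ J) = Module.length k (A k n ⧸ J) := by
  have h1 : Module.length (P k) (A k n ⧸ J) = Module.length (A k n) (A k n ⧸ J) :=
    Module.length_eq_of_surjective (Ideal.Quotient.mk_surjective (I := relIdeal k n))
  have hres : Function.Surjective
      (algebraMap (IsLocalRing.ResidueField k) (IsLocalRing.ResidueField (P k))) := by
    intro z
    obtain ⟨f, rfl⟩ := Ideal.Quotient.mk_surjective z
    refine ⟨IsLocalRing.residue k (constantCoeff f), ?_⟩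
    show IsLocalRing.residue (P k) (algebraMap k (P k) (constantCoeff f)) = IsLocalRing.residue _ f
    rw [← sub_eq_zero, ← map_sub, IsLocalRing.residue_eq_zero_iff]
    rw [PSLib.maximalIdeal_eq_vars, PSLib.mem_vars_iff, map_sub, sub_eq_zero,
      MvPowerSeries.algebraMap_apply, constantCoeff_C]
    simp
  have h2 : Module.length (IsLocalRing.ResidueField k) (IsLocalRing.ResidueField (P k)) = 1 := by
    rw [Module.length_eq_of_surjective (M := IsLocalRing.ResidueField (P k)) hres,
      Module.length_eq_one]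
  rw [IsLocalRing.length_restrictScalars k (P k) (A k n ⧸ J), h2, mul_one, h1]

/-- The quotient map `P → A/J`, as a `k`-linear map. -/
noncomputable def proj (J : Ideal (A k n)) : P k →ₗ[k] A k n ⧸ J :=
  ((Ideal.Quotient.mkₐ k J).comp (Ideal.Quotient.mkₐ k (relIdeal k n))).toLinearMap

lemma proj_apply (J : Ideal (A k n)) (f : P k) :
    proj k n J f = Ideal.Quotient.mk J (Ideal.Quotient.mk _ f) := rfl

lemma proj_surjective (J : Ideal (A k n)) : Function.Surjective (proj k n J) :=
  fun z => by
    obtain ⟨a, rfl⟩ := Ideal.Quotient.mk_surjective z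
    obtain ⟨f, rfl⟩ := Ideal.Quotient.mk_surjective a
    exact ⟨f, rfl⟩

variable {ι : Type} [Fintype ι]

omit [Fintype ι] in
lemma length_pi_fun [Fintype ι] :
    Module.length k (ι → k) = Fintype.card ι := by
  rw [Module.length_eq_finrank, Module.finrank_fintype_fun_eq_card]

/-- Lower bound: functionals killing `J`. -/
theorem card_le_length (hn : 1 ≤ n) (J : Ideal (A k n)) (G : Ideal (P k))
    (hJ : J ≤ G.map (Ideal.Quotient.mk (relIdeal k n))) (c : ι → ℕ × ℕ × ℕ)
    (hc : Function.Injective c) (he : ∀ t, (c t).1 < 2)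
    (hG : ∀ t, ∀ g ∈ G, phi k n (c t).1 (c t).2.1 (c t).2.2 g = 0) :
    (Fintype.card ι : ℕ∞) ≤ Module.length (A k n) (A k n ⧸ J) := by
  classical
  rw [length_A_eq, ← length_pi_fun k (ι := ι)]
  let Φ : P k →ₗ[k] ι → k := LinearMap.pi fun t => phi k n (c t).1 (c t).2.1 (c t).2.2
  have hΦ : ∀ (f : P k) t, Φ f t = phi k n (c t).1 (c t).2.1 (c t).2.2 f := fun _ _ => rfl
  have hker : LinearMap.ker (proj k n J) ≤ LinearMap.ker Φ := by
    intro f hf
    rw [LinearMap.mem_ker, proj_apply, Ideal.Quotient.eq_zero_iff_mem] at hf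
    obtain ⟨g, hg, hfg⟩ := (Ideal.mem_map_iff_of_surjective _
      Ideal.Quotient.mk_surjective).1 (hJ hf)
    rw [Ideal.Quotient.eq] at hfg
    rw [LinearMap.mem_ker]
    funext t
    have h0 := phi_mem_relIdeal k n (i := (c t).2.1) (j := (c t).2.2) (he t) hn hfg
    rw [map_sub, hG t g hg, zero_sub, neg_eq_zero] at h0
    rw [hΦ, h0]
    rfl
  let e := (proj k n J).quotKerEquivOfSurjective (proj_surjective k n J)
  let ψ : (A k n ⧸ J) →ₗ[k] (ι → k) :=
    ((LinearMap.ker (proj k n J)).liftQ Φ hker).comp e.symm.toLinearMap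
  refine Module.length_le_of_surjective ψ fun v => ?_
  let f : P k := ∑ t, v t • monomial (expo (c t).1 (c t).2.1 (c t).2.2) 1
  refine ⟨e (Submodule.Quotient.mk f), ?_⟩
  show (LinearMap.ker (proj k n J)).liftQ Φ hker (e.symm (e (Submodule.Quotient.mk f))) = v
  rw [e.symm_apply_apply, Submodule.liftQ_apply]
  funext t
  rw [hΦ, map_sum, Finset.sum_eq_single t]
  · rw [map_smul, phi_monomial k n hn (he t) (he t), if_pos rfl, smul_eq_mul, mul_one]
  · intro t' _ hne
    rw [map_smul, phi_monomial k n hn (he t) (he t'), if_neg, smul_zero]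
    exact fun h => hne (hc (by simpa [Prod.ext_iff] using h.symm))
  · intro h
    simp at h

lemma mk_X0_sq : Ideal.Quotient.mk (relIdeal k n) (X 0) ^ 2 =
    Ideal.Quotient.mk (relIdeal k n) (X 1) ^ n := by
  rw [← map_pow, ← map_pow, Ideal.Quotient.eq]
  exact Ideal.subset_span rfl

lemma monomial_expo (a b c : ℕ) :
    (monomial (expo a b c) 1 : P k) = X 0 ^ a * X 1 ^ b * X 2 ^ c := by
  rw [X_pow_eq, X_pow_eq, X_pow_eq, monomial_mul_monomial, monomial_mul_monomial, one_mul, one_mul]
  rfl

/-- Monomials reduce to normal-form monomials. -/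
lemma mk_monomial_reduce (a b c : ℕ) :
    Ideal.Quotient.mk (relIdeal k n) (monomial (expo a b c) 1) =
      Ideal.Quotient.mk (relIdeal k n) (monomial (expo (a % 2) (b + n * (a / 2)) c) 1) := by
  simp only [monomial_expo, map_mul, map_pow]
  conv_lhs => rw [← Nat.mod_add_div a 2, pow_add, pow_mul, mk_X0_sq k n, ← pow_mul]
  ring

/-- Upper bound: spanning monomials. -/
theorem length_le_card (J : Ideal (A k n)) (c : ι → ℕ × ℕ × ℕ) (B : ℕ)
    (hJ : ∀ e i j, e < 2 → (e, i, j) ∉ Set.range c →
      Ideal.Quotient.mk (relIdeal k n) (monomial (expo e i j) 1) ∈ J)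
    (hB : ∀ t, (c t).2.1 + (c t).2.2 < B) (hn : 1 ≤ n) :
    Module.length (A k n) (A k n ⧸ J) ≤ Fintype.card ι := by
  classical
  rw [length_A_eq, ← length_pi_fun k (ι := ι)]
  let ψ : (ι → k) →ₗ[k] A k n ⧸ J :=
    Fintype.linearCombination k fun t => proj k n J (monomial (expo (c t).1 (c t).2.1 (c t).2.2) 1)
  refine Module.length_le_of_surjective ψ ?_
  rw [← LinearMap.range_eq_top, eq_top_iff]
  have hmon : ∀ a b d, proj k n J (monomial (expo a b d) 1) ∈ LinearMap.range ψ := by
    intro a b d
    rw [proj_apply, mk_monomial_reduce]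
    by_cases h : (a % 2, b + n * (a / 2), d) ∈ Set.range c
    · obtain ⟨t, ht⟩ := h
      refine ⟨Pi.single t 1, ?_⟩
      simp only [ψ, Fintype.linearCombination_apply_single, one_smul, proj_apply]
      rw [ht]
    · rw [Ideal.Quotient.eq_zero_iff_mem.2 (hJ _ _ _ (Nat.mod_lt _ (by omega)) h)]
      exact zero_mem _
  have hhigh : ∀ a b d, 2 * B + 1 < a + b + d →
      Ideal.Quotient.mk (relIdeal k n) (monomial (expo a b d) 1) ∈ J := by
    intro a b d h
    rw [mk_monomial_reduce]
    refine hJ _ _ _ (Nat.mod_lt _ (by omega)) ?_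
    rintro ⟨t, ht⟩
    have := hB t
    rw [ht] at this
    have : a / 2 ≤ n * (a / 2) := Nat.le_mul_of_pos_left _ (by omega)
    simp only at *
    omega
  have hvars : PSLib.vars 3 k ≤ (J.comap (Ideal.Quotient.mk (relIdeal k n))).radical := by
    rw [PSLib.vars, Ideal.span_le]
    rintro _ ⟨i, rfl⟩
    refine ⟨2 * B + 2, ?_⟩
    show Ideal.Quotient.mk (relIdeal k n) (X i ^ (2 * B + 2)) ∈ J
    rw [X_pow_eq, show Finsupp.single i (2 * B + 2) = expo _ _ _ from expo_eta _]
    refine hhigh _ _ _ ?_
    fin_cases i <;> simp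
  obtain ⟨N, hN⟩ := Ideal.exists_pow_le_of_le_radical_of_fg hvars
    (Submodule.fg_span (Set.finite_range _))
  intro z _
  obtain ⟨f, rfl⟩ := proj_surjective k n J z
  have hdiff : proj k n J (f - (truncTotal N f : MvPolynomial (Fin 3) k)) = 0 := by
    rw [proj_apply, Ideal.Quotient.eq_zero_iff_mem]
    refine hN (PSLib.mem_pow_iff.2 fun d hd => ?_)
    rw [map_sub, MvPolynomial.coeff_coe, coeff_truncTotal _ hd, sub_self]
  rw [map_sub, sub_eq_zero] at hdiff
  rw [hdiff]
  refine MvPolynomial.induction_on' (P := fun p => proj k n J (p : P k) ∈ LinearMap.range ψ)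
    (truncTotal N f) ?_ ?_
  · intro d r
    rw [MvPolynomial.coe_monomial, ← mul_one r, ← smul_eq_mul, map_smul, map_smul]
    refine Submodule.smul_mem _ r ?_
    rw [expo_eta d]
    exact hmon _ _ _
  · intro p q hp hq
    rw [MvPolynomial.coe_add, map_add]
    exact Submodule.add_mem _ hp hq

end Groth.Agent.GrLib8.HighDP
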