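import Groth.Agent.GrLib8.HighDP.Basic
import Mathlib.Analysis.SpecificLimits.Basic

/-!
The ideal `(x^2, xy, y^2, xt, yt^2, t^4)` of `k[[x,y,t]]/(x^2 - y^n)`: colength and multiplicity.
-/

namespace Groth.Agent.GrLib8.HighDP

open MvPowerSeries Filter

universe u

variable (k : Type u) [Field k] (n : ℕ)

local notation "mkA" => Ideal.Quotient.mk (relIdeal k n)

section Generic

variable {R : Type u} [CommRing R] (x y t : R)

/-- The ideal `(y, t^2)`. -/
def QQ : Ideal R := Ideal.span {y, t ^ 2}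

/-- The ideal `(y, t)`. -/
def NN : Ideal R := Ideal.span {y, t}

/-- The ideal `(x)`. -/
def XX : Ideal R := Ideal.span {x}

/-- The witness ideal. -/
def II : Ideal R := Ideal.span {x ^ 2, x * y, y ^ 2, x * t, y * t ^ 2, t ^ 4}

lemma QQ_le_NN : QQ y t ≤ NN y t := by
  rw [QQ, NN, Ideal.span_le]
  rintro z (rfl | rfl)
  · exact Ideal.subset_span (Set.mem_insert _ _)
  · have ht : t ∈ Ideal.span ({y, t} : Set R) :=
      Ideal.subset_span (Set.mem_insert_of_mem _ (Set.mem_singleton t))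
    rw [SetLike.mem_coe, pow_two]
    exact Ideal.mul_mem_left _ _ ht

lemma y_mem_QQ : y ∈ QQ y t := Ideal.subset_span (Set.mem_insert _ _)

lemma t2_mem_QQ : t ^ 2 ∈ QQ y t := Ideal.subset_span (Set.mem_insert_of_mem _ rfl)

lemma II_le {n : ℕ} (hn : 3 ≤ n) (hxy : x ^ 2 = y ^ n) :
    II x y t ≤ QQ y t ^ 2 ⊔ XX x * NN y t := by
  rw [II, Ideal.span_le]
  have hx : x ∈ XX x := Ideal.subset_span rfl
  have hy : y ∈ NN y t := Ideal.subset_span (Set.mem_insert _ _)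
  have ht : t ∈ NN y t := Ideal.subset_span (Set.mem_insert_of_mem _ rfl)
  rintro z (rfl | rfl | rfl | rfl | rfl | rfl)
  · rw [hxy]
    exact Ideal.mem_sup_left (Ideal.pow_le_pow_right (show 2 ≤ n by omega)
      (Ideal.pow_mem_pow (y_mem_QQ y t) n))
  · exact Ideal.mem_sup_right (Ideal.mul_mem_mul hx hy)
  · exact Ideal.mem_sup_left (Ideal.pow_mem_pow (y_mem_QQ y t) 2)
  · exact Ideal.mem_sup_right (Ideal.mul_mem_mul hx ht)
  · rw [pow_two (QQ y t)]
    exact Ideal.mem_sup_left (Ideal.mul_mem_mul (y_mem_QQ y t) (t2_mem_QQ y t))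
  · rw [show t ^ 4 = (t ^ 2) ^ 2 by ring]
    exact Ideal.mem_sup_left (Ideal.pow_mem_pow (t2_mem_QQ y t) 2)

lemma NN_sq_le : NN y t * NN y t ≤ QQ y t := by
  rw [NN, Ideal.span_mul_span', Ideal.span_le]
  rintro _ ⟨a, ha, b, hb, rfl⟩
  simp only [Set.mem_insert_iff, Set.mem_singleton_iff] at ha hb
  have hy := y_mem_QQ y t
  have ht := t2_mem_QQ y t
  rcases ha with rfl | rfl <;> rcases hb with rfl | rfl <;>
    first
      | exact Ideal.mul_mem_left _ _ hy
      | exact Ideal.mul_mem_right _ _ hy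
      | simpa [← pow_two] using ht

lemma II_pow_le {n : ℕ} (hn : 3 ≤ n) (hxy : x ^ 2 = y ^ n) (m : ℕ) :
    II x y t ^ (m + 1) ≤ QQ y t ^ (2 * m + 2) ⊔ XX x * (NN y t * QQ y t ^ (2 * m)) := by
  induction m with
  | zero => simpa using II_le x y t hn hxy
  | succ m ih =>
    rw [pow_succ]
    refine le_trans (mul_le_mul' ih (II_le x y t hn hxy)) ?_
    rw [Ideal.sup_mul, Ideal.mul_sup, Ideal.mul_sup]
    refine sup_le (sup_le ?_ ?_) (sup_le ?_ ?_)
    · exact le_sup_of_le_left (by rw [← pow_add, show 2 * m + 2 + 2 = 2 * (m + 1) + 2 by ring])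
    · refine le_sup_of_le_right (le_of_eq ?_)
      rw [show 2 * (m + 1) = 2 * m + 2 by ring]
      ac_rfl
    · refine le_sup_of_le_right (le_of_eq ?_)
      rw [show 2 * (m + 1) = 2 * m + 2 by ring, pow_add]
      ac_rfl
    · refine le_sup_of_le_left ?_
      have hXX : XX x * XX x ≤ QQ y t ^ 3 := by
        rw [XX, Ideal.span_singleton_mul_span_singleton, Ideal.span_le, Set.singleton_subset_iff,
          SetLike.mem_coe, ← pow_two, hxy]
        exact Ideal.pow_le_pow_right hn (Ideal.pow_mem_pow (y_mem_QQ y t) n)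
      calc XX x * (NN y t * QQ y t ^ (2 * m)) * (XX x * NN y t)
          = (XX x * XX x) * (NN y t * NN y t) * QQ y t ^ (2 * m) := by ac_rfl
        _ ≤ QQ y t ^ 3 * QQ y t * QQ y t ^ (2 * m) :=
            mul_le_mul' (mul_le_mul' hXX (NN_sq_le y t)) le_rfl
        _ = QQ y t ^ (2 * (m + 1) + 2) := by
            rw [← pow_succ, ← pow_add, show 3 + 1 + 2 * m = 2 * (m + 1) + 2 by ring]

lemma QQ_pow_le : ∀ m : ℕ, QQ y t ^ (2 * m) ≤ II x y t ^ m := by
  have h : QQ y t ^ 2 ≤ II x y t := by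
    rw [pow_two, QQ, Ideal.span_mul_span', Ideal.span_le, II]
    rintro _ ⟨a, ha, b, hb, rfl⟩
    simp only [Set.mem_insert_iff, Set.mem_singleton_iff] at ha hb
    rcases ha with rfl | rfl <;> rcases hb with rfl | rfl <;> refine Ideal.subset_span ?_ <;>
      simp [pow_two, mul_comm, show t ^ 4 = t * t * (t * t) by ring]
  intro m
  rw [pow_mul]
  exact pow_le_pow_left' h m

lemma x_mul_NN_le : XX x * NN y t ≤ II x y t := by
  rw [XX, NN, Ideal.span_mul_span', Ideal.span_le, II]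
  rintro _ ⟨a, ha, b, hb, rfl⟩
  simp only [Set.mem_insert_iff, Set.mem_singleton_iff] at ha hb
  rcases hb with rfl | rfl <;> subst ha <;> exact Ideal.subset_span (by simp)

lemma yt_mem (i j s : ℕ) (h : s ≤ i + j / 2) : y ^ i * t ^ j ∈ QQ y t ^ s := by
  refine Ideal.pow_le_pow_right h ?_
  rw [show t ^ j = t ^ (2 * (j / 2)) * t ^ (j % 2) by rw [← pow_add, Nat.div_add_mod],
    ← mul_assoc, pow_mul, pow_add (QQ y t)]
  exact Ideal.mul_mem_right _ _ (Ideal.mul_mem_mul (Ideal.pow_mem_pow (y_mem_QQ y t) i)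
    (Ideal.pow_mem_pow (t2_mem_QQ y t) (j / 2)))

lemma yt_mem_II (m i j : ℕ) (h : 2 * m ≤ i + j / 2) : y ^ i * t ^ j ∈ II x y t ^ m :=
  QQ_pow_le x y t m (yt_mem y t i j _ h)

lemma xyt_mem_II (m i j : ℕ) (h : 2 * m + 1 ≤ i + j / 2) :
    x * (y ^ i * t ^ j) ∈ II x y t ^ (m + 1) := by
  have h1 : XX x * QQ y t ^ (2 * m + 1) ≤ II x y t ^ (m + 1) := by
    rw [pow_succ' (II x y t), pow_succ' (QQ y t), ← mul_assoc]
    exact mul_le_mul' ((Ideal.mul_mono_right (QQ_le_NN y t)).trans (x_mul_NN_le x y t))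
      (QQ_pow_le x y t m)
  exact h1 (Ideal.mul_mem_mul (Ideal.subset_span rfl) (yt_mem y t i j _ h))

lemma xyt_mem_II_one (i j : ℕ) (h : i ≠ 0 ∨ j ≠ 0) : x * (y ^ i * t ^ j) ∈ II x y t := by
  refine x_mul_NN_le x y t (Ideal.mul_mem_mul (Ideal.subset_span rfl) ?_)
  rcases h with h | h
  · exact Ideal.mul_mem_right _ _
      (Ideal.pow_mem_of_mem _ (Ideal.subset_span (Set.mem_insert _ _)) i (by omega))
  · have ht : t ∈ NN y t := Ideal.subset_span (Set.mem_insert_of_mem _ (Set.mem_singleton t))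
    exact Ideal.mul_mem_left _ _ (Ideal.pow_mem_of_mem _ ht j (by omega))

lemma QQ_pow_le_map {S : Type u} [CommRing S] (φ : S →+* R) (F : ℕ → Ideal S) {y' t' : S}
    (hy : φ y' = y) (ht : φ t' = t) (hy' : y' ∈ F 1) (ht' : t' ^ 2 ∈ F 1)
    (hF : ∀ s, F 1 ^ s ≤ F s) (s : ℕ) : QQ y t ^ s ≤ (F s).map φ := by
  have h : QQ y t ≤ (F 1).map φ := by
    rw [QQ, Ideal.span_le]
    rintro z (rfl | rfl)
    · rw [← hy]; exact Ideal.mem_map_of_mem _ hy'
    · rw [← ht, ← map_pow]; exact Ideal.mem_map_of_mem _ ht'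
  refine (pow_le_pow_left' h s).trans ?_
  rw [← Ideal.map_pow]
  exact Ideal.map_mono (hF s)

lemma II_pow_le_map {S : Type u} [CommRing S] (φ : S →+* R) (F : ℕ → Ideal S) {x' y' t' : S}
    (hx : φ x' = x) (hy : φ y' = y) (ht : φ t' = t) (hy' : y' ∈ F 1) (ht' : t' ^ 2 ∈ F 1)
    (hF : ∀ s, F 1 ^ s ≤ F s) {n : ℕ} (hn : 3 ≤ n) (hxy : x ^ 2 = y ^ n) (m : ℕ) :
    II x y t ^ (m + 1) ≤ (F (2 * m + 2) ⊔ Ideal.span {x'} * F (2 * m)).map φ := by
  refine (II_pow_le x y t hn hxy m).trans ?_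
  rw [Ideal.map_sup, Ideal.map_mul, Ideal.map_span, Set.image_singleton, hx]
  exact sup_le_sup (QQ_pow_le_map y t φ F hy ht hy' ht' hF _)
    (Ideal.mul_mono_right (Ideal.mul_le_right.trans (QQ_pow_le_map y t φ F hy ht hy' ht' hF _)))

lemma II_le_map {S : Type u} [CommRing S] (φ : S →+* R) (F : ℕ → Ideal S) {x' y' t' : S}
    (hx : φ x' = x) (hy : φ y' = y) (ht : φ t' = t) (hy' : y' ∈ F 1) (ht' : t' ^ 2 ∈ F 1)
    (hF : ∀ s, F 1 ^ s ≤ F s) (V : Ideal S) (hyV : y' ∈ V) (htV : t' ∈ V)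
    {n : ℕ} (hn : 3 ≤ n) (hxy : x ^ 2 = y ^ n) :
    II x y t ≤ (F 2 ⊔ Ideal.span {x'} * V).map φ := by
  refine (II_le x y t hn hxy).trans ?_
  rw [Ideal.map_sup, Ideal.map_mul, Ideal.map_span, Set.image_singleton, hx]
  refine sup_le_sup (QQ_pow_le_map y t φ F hy ht hy' ht' hF _) (Ideal.mul_mono_right ?_)
  rw [NN, Ideal.span_le]
  rintro z (rfl | rfl)
  · rw [← hy]; exact Ideal.mem_map_of_mem _ hyV
  · rw [← ht]; exact Ideal.mem_map_of_mem _ htV

end Generic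

/-- The witness ideal of `k[[x,y,t]]/(x^2 - y^n)`. -/
noncomputable abbrev IA : Ideal (A k n) := II (mkA (X 0)) (mkA (X 1)) (mkA (X 2))

lemma IA_eq :
    (Ideal.span {(X 0 ^ 2 : P k), X 0 * X 1, X 1 ^ 2, X 0 * X 2, X 1 * X 2 ^ 2, X 2 ^ 4}).map mkA =
      IA k n := by
  rw [IA, II, Ideal.map_span]
  simp only [Set.image_insert_eq, Set.image_singleton, map_mul, map_pow]

lemma y_mem_filt : (X 1 : P k) ∈ filt k 1 := fun a b c h => by
  classical
  rw [coeff_X, if_neg]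
  intro he
  have := congrArg (fun d => d 1) he
  simp [expo] at this
  omega

lemma t2_mem_filt : (X 2 : P k) ^ 2 ∈ filt k 1 := fun a b c h => by
  classical
  rw [X_pow_eq, coeff_monomial, if_neg]
  intro he
  have := congrArg (fun d => d 2) he
  simp [expo] at this
  omega

/-- Exponents `(i,j)` with `i + ⌊j/2⌋ < s`. -/
def T (s : ℕ) : Finset ((_ : ℕ) × ℕ) :=
  (Finset.range s).sigma fun i => Finset.range (2 * (s - i))

lemma mem_T {s i j : ℕ} : (⟨i, j⟩ : (_ : ℕ) × ℕ) ∈ T s ↔ i + j / 2 < s := by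
  simp [T]
  omega

lemma card_T (s : ℕ) : (T s).card = s * (s + 1) := by
  rw [T, Finset.card_sigma]
  simp only [Finset.card_range]
  induction s with
  | zero => simp
  | succ s ih =>
    rw [Finset.sum_range_succ']
    simp only [Nat.succ_sub_succ_eq_sub, tsub_zero, ih]
    ring

/-- Index maps: normal form exponents. -/
def idx {S0 S1 : Finset ((_ : ℕ) × ℕ)} : ↥S0 ⊕ ↥S1 → ℕ × ℕ × ℕ
  | .inl p => (0, p.1.1, p.1.2)
  | .inr p => (1, p.1.1, p.1.2)

lemma idx_injective {S0 S1 : Finset ((_ : ℕ) × ℕ)} :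
    Function.Injective (idx : ↥S0 ⊕ ↥S1 → ℕ × ℕ × ℕ) := by
  rintro (⟨⟨a, b⟩, _⟩ | ⟨⟨a, b⟩, _⟩) (⟨⟨c, d⟩, _⟩ | ⟨⟨c, d⟩, _⟩) h <;>
    simp [idx] at h ⊢ <;> obtain ⟨rfl, rfl⟩ := h <;> trivial

lemma idx_fst_lt {S0 S1 : Finset ((_ : ℕ) × ℕ)} (t : ↥S0 ⊕ ↥S1) : (idx t).1 < 2 := by
  rcases t with t | t <;> simp [idx]

theorem length_II_pow_le (hn : 3 ≤ n) (m : ℕ) :
    Module.length (A k n) (A k n ⧸ IA k n ^ (m + 1)) ≤ (8 * (m + 1) ^ 2 : ℕ) := by
  refine le_trans (length_le_card k n (IA k n ^ (m + 1))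
    (idx : ↥(T (2 * m + 2)) ⊕ ↥(T (2 * m + 1)) → ℕ × ℕ × ℕ) (4 * m + 6) ?_ ?_ (by omega)) ?_
  · intro e i j he hnot
    rcases (show e = 0 ∨ e = 1 by omega) with rfl | rfl
    · rw [monomial_expo, pow_zero, one_mul, map_mul, map_pow, map_pow]
      refine yt_mem_II _ _ _ (m + 1) i j ?_
      by_contra hlt
      exact hnot ⟨.inl ⟨⟨i, j⟩, mem_T.2 (by omega)⟩, rfl⟩
    · rw [monomial_expo, pow_one, mul_assoc, map_mul, map_mul, map_pow, map_pow]
      refine xyt_mem_II _ _ _ m i j ?_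
      by_contra hlt
      exact hnot ⟨.inr ⟨⟨i, j⟩, mem_T.2 (by omega)⟩, rfl⟩
  · rintro (⟨⟨a, b⟩, h⟩ | ⟨⟨a, b⟩, h⟩) <;> have := mem_T.1 h <;> simp [idx] <;> omega
  · rw [Fintype.card_sum, Fintype.card_coe, Fintype.card_coe, card_T, card_T, Nat.cast_le]
    exact le_of_eq (by ring)

theorem length_II_pow_ge (hn : 3 ≤ n) (m : ℕ) :
    ((8 * (m + 1) ^ 2 - 4 * (m + 1) : ℕ) : ℕ∞) ≤
      Module.length (A k n) (A k n ⧸ IA k n ^ (m + 1)) := by
  refine le_trans ?_ (card_le_length k n (by omega) (IA k n ^ (m + 1)) _ (II_pow_le_map _ _ _ mkA (filt k) rfl rfl rfl (y_mem_filt k) (t2_mem_filt k) (filt_pow k) hn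
      (mk_X0_sq k n) m)
    (idx : ↥(T (2 * m + 2)) ⊕ ↥(T (2 * m)) → ℕ × ℕ × ℕ) idx_injective idx_fst_lt ?_)
  · rw [Fintype.card_sum, Fintype.card_coe, Fintype.card_coe, card_T, card_T, Nat.cast_le,
      Nat.sub_le_iff_le_add]
    nlinarith
  · intro t g hg
    obtain ⟨a, ha, b, hb, rfl⟩ := Submodule.mem_sup.1 hg
    obtain ⟨c, hc, rfl⟩ := Ideal.mem_span_singleton_mul.1 hb
    rw [map_add, mul_comm (X 0 : P k) c]
    rcases t with ⟨⟨i, j⟩, h⟩ | ⟨⟨i, j⟩, h⟩ <;> have := mem_T.1 h <;> simp only [idx]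
    · rw [phi_filt k n (by omega) ha, phi_X_mul_filt k n (by omega) (s := 2 * m)
        (by simp only [if_pos]; omega) hc, add_zero]
    · rw [phi_filt k n (by omega) ha, phi_X_mul_filt k n (by omega) (s := 2 * m)
        (by simp only [one_ne_zero, if_false]; omega) hc, add_zero]

theorem length_II (hn : 3 ≤ n) : Module.length (A k n) (A k n ⧸ IA k n) = 7 := by
  apply le_antisymm
  · refine le_trans (length_le_card k n (IA k n)
      (idx : ↥(T 2) ⊕ ↥({⟨0, 0⟩} : Finset ((_ : ℕ) × ℕ)) → ℕ × ℕ × ℕ) 7 ?_ ?_ (by omega)) ?_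
    · intro e i j he hnot
      rcases (show e = 0 ∨ e = 1 by omega) with rfl | rfl
      · have := yt_mem_II (mkA (X 0)) (mkA (X 1)) (mkA (X 2)) 1 i j (by
          by_contra hlt
          exact hnot ⟨.inl ⟨⟨i, j⟩, mem_T.2 (by omega)⟩, rfl⟩)
        rw [monomial_expo, pow_zero, one_mul, map_mul, map_pow, map_pow]
        simpa using this
      · rw [monomial_expo, pow_one, mul_assoc, map_mul, map_mul, map_pow, map_pow]
        refine xyt_mem_II_one _ _ _ i j ?_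
        by_contra hc
        push_neg at hc
        obtain ⟨rfl, rfl⟩ := hc
        exact hnot ⟨.inr ⟨⟨0, 0⟩, Finset.mem_singleton_self _⟩, rfl⟩
    · rintro (⟨⟨a, b⟩, h⟩ | ⟨⟨a, b⟩, h⟩)
      · have := mem_T.1 h
        simp [idx]
        omega
      · simp only [Finset.mem_singleton] at h
        cases h
        simp [idx]
    · rw [Fintype.card_sum, Fintype.card_coe, Fintype.card_coe, card_T, Finset.card_singleton]
      norm_num
  · have hle := II_le_map (mkA (X 0)) (mkA (X 1)) (mkA (X 2)) mkA (filt k) rfl rfl rfl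
      (y_mem_filt k) (t2_mem_filt k) (filt_pow k) (PSLib.vars 3 k)
      (Ideal.subset_span ⟨1, rfl⟩) (Ideal.subset_span ⟨2, rfl⟩) hn (mk_X0_sq k n)
    refine le_trans ?_ (card_le_length k n (by omega) (IA k n) _ hle
      (idx : ↥(T 2) ⊕ ↥({⟨0, 0⟩} : Finset ((_ : ℕ) × ℕ)) → ℕ × ℕ × ℕ) idx_injective
      idx_fst_lt ?_)
    · rw [Fintype.card_sum, Fintype.card_coe, Fintype.card_coe, card_T, Finset.card_singleton]
      norm_num
    · intro t g hg
      obtain ⟨a, ha, b, hb, rfl⟩ := Submodule.mem_sup.1 hg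
      obtain ⟨c, hc, rfl⟩ := Ideal.mem_span_singleton_mul.1 hb
      rw [map_add, mul_comm (X 0 : P k) c]
      rcases t with ⟨⟨i, j⟩, h⟩ | ⟨⟨i, j⟩, h⟩
      · have := mem_T.1 h
        simp only [idx]
        rw [phi_filt k n (by omega) ha, phi_X_mul_filt k n (by omega) (s := 0)
          (by simp only [if_pos]; omega) (by rw [filt_zero]; trivial), add_zero]
      · simp only [Finset.mem_singleton] at h
        cases h
        simp only [idx]
        rw [phi_filt k n (by norm_num) ha, zero_add, phi_apply, Finset.sum_range_one,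
          if_pos (by simp), ← pow_one (X 0 : P k), coeff_X0_pow_mul, if_pos (by simp)]
        have h0 := PSLib.mem_vars_iff.1 hc
        rw [← coeff_zero_eq_constantCoeff_apply] at h0
        have hexp : expo (2 * 0 + 1 - 1) (0 - n * 0) 0 = 0 := by
          simp [expo]
        rw [hexp]
        exact h0

theorem tendsto_length (hn : 3 ≤ n) :
    Tendsto (fun m : ℕ => (2 : ℝ) *
      ((Module.length (A k n) (A k n ⧸ IA k n ^ m)).toNat : ℝ) / (m : ℝ) ^ 2) atTop (nhds 16) := by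
  have h1 : Tendsto (fun m : ℕ => (16 : ℝ) - 8 * ((1 : ℝ) / m)) atTop (nhds 16) := by
    simpa using tendsto_const_nhds.sub ((tendsto_one_div_atTop_nhds_zero_nat).const_mul (8 : ℝ))
  refine tendsto_of_tendsto_of_tendsto_of_le_of_le' h1 tendsto_const_nhds ?_ ?_
  all_goals
    filter_upwards [eventually_ge_atTop 1] with m hm
    obtain ⟨m, rfl⟩ := Nat.exists_eq_add_of_le' hm
    have hu := length_II_pow_le k n hn m
    have hl := length_II_pow_ge k n hn m
    generalize Module.length (A k n) (A k n ⧸ IA k n ^ (m + 1)) = L at hu hl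
    lift L to ℕ using ne_top_of_le_ne_top (ENat.coe_ne_top _) hu
    rw [Nat.cast_le] at hu hl
    rw [Nat.sub_le_iff_le_add] at hl
    have hu' : (L : ℝ) ≤ 8 * ((m : ℝ) + 1) ^ 2 := by exact_mod_cast hu
    have hl' : 8 * ((m : ℝ) + 1) ^ 2 ≤ (L : ℝ) + 4 * ((m : ℝ) + 1) := by exact_mod_cast hl
    have hpos : (0 : ℝ) < (m : ℝ) + 1 := by positivity
    simp only [ENat.toNat_coe]
    push_cast
  · rw [le_div_iff₀ (by positivity), mul_one_div, sub_mul, div_mul_eq_mul_div]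
    rw [show 8 * ((m : ℝ) + 1) ^ 2 / ((m : ℝ) + 1) = 8 * ((m : ℝ) + 1) by field_simp]
    nlinarith
  · rw [div_le_iff₀ (by positivity)]
    nlinarith

end Groth.Agent.GrLib8.HighDP
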